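import Cfsg.Agent.H517.Kgv.Tools
import Cfsg.Agent.H934.OutCl
import Cfsg.Agent.S0280
import Cfsg.Agent.S2481
import Cfsg.Agent.S2334
import Cfsg.Agent.S2335

set_option autoImplicit false

/-!
# TEAM KGV: the row `PSU_n(q)` (helper517)
-/

namespace Cfsg.Agent.H517.Kgv.PSU

open Cfsg Cfsg.Agent.H960.KGV Cfsg.Agent.H540.ClassNum Cfsg.Agent.H934.OutB Cfsg.Agent.H934.OutCl Matrix

/-! ### class numbers -/

open Cfsg.Agent.H152 in
/-- the class number of `SU_n(q)` for `n` prime to `q + 1` -/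
theorem card_le_of_coprime {F : Type} [Field F] [Fintype F] {n q : ℕ} (hF : Fintype.card F = q ^ 2)
    (hc : Nat.Coprime n (q + 1)) :
    Nat.card (ConjClasses (Cfsg.SU n F q)) * (q + 1) ≤ Model.K (Model.w (q + 1) q) n n := by
  classical
  have hq : 2 ≤ q := Cfsg.Agent.ClassicalGeometry.GUBasic.two_le hF
  have hcard := S2481.card_roots hF hq
  have h1 := card_classes_mul_le hF n
  rw [hcard] at h1
  have h5 : ∀ p : rootsOfUnity (q + 1) F × rootsOfUnity (q + 1) F, p ≠ 1 →
      ¬ Nat.lcm (orderOf p.1) (orderOf p.2) ∣ n := by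
    intro p hp hdvd
    have ho : ∀ x : rootsOfUnity (q + 1) F, orderOf x ∣ n → x = 1 := by
      intro x hx
      have h6 : orderOf x ∣ q + 1 := by
        have := orderOf_dvd_natCard x
        rwa [hcard] at this
      have h7 := Nat.dvd_gcd hx h6
      rw [hc] at h7
      exact orderOf_eq_one_iff.1 (Nat.dvd_one.1 h7)
    apply hp
    exact Prod.ext (ho _ ((Nat.dvd_lcm_left _ _).trans hdvd)) (ho _ ((Nat.dvd_lcm_right _ _).trans hdvd))
  rw [Finset.sum_eq_single (1 : rootsOfUnity (q + 1) F × rootsOfUnity (q + 1) F)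
    (fun p _ hp => if_neg (h5 p hp)) (fun h => absurd (Finset.mem_univ _) h)] at h1
  simpa using h1

/-! ### arithmetic -/

theorem pow4_le {d : ℕ} (hd : 10 ≤ d) : 100 * d ^ 4 ≤ 5 ^ (d - 1) := by
  induction d, hd using Nat.le_induction with
  | base => norm_num
  | succ m hm ih =>
    have e : m + 1 - 1 = (m - 1) + 1 := by omega
    rw [e, pow_succ 5]
    have h1 : 10 * (m + 1) ≤ 11 * m := by omega
    have h2 : (10 * (m + 1)) ^ 4 ≤ (11 * m) ^ 4 := Nat.pow_le_pow_left h1 4
    rw [mul_pow, mul_pow] at h2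
    norm_num at h2
    generalize (m + 1) ^ 4 = a at h2 ⊢
    generalize m ^ 4 = b at h2 ih ⊢
    omega

theorem num_gen {n q f o k d : ℕ} (hn : 3 ≤ n) (hq : 2 ≤ q) (hf : f * 2 ≤ q) (ho : o = Nat.gcd n (q + 1) * (2 * f))
    (hk : 100 * k ≤ 826 * q ^ (n - 1)) (hx : q ^ (n - 1) ≤ 2 * d ^ 2) (hd : 10 ≤ d) :
    2 * (k * o) ≤ 5 ^ (d - 1) := by
  have hg : Nat.gcd n (q + 1) ≤ q + 1 := Nat.gcd_le_right _ (by omega)
  have h2 : q ^ 2 ≤ q ^ (n - 1) := Nat.pow_le_pow_right (by omega) (by omega)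
  set N := q ^ (n - 1) with hN
  have h3 : 2 * o ≤ 3 * N := by
    have h4 : o ≤ (q + 1) * q := by
      rw [ho]
      exact Nat.mul_le_mul hg (by omega)
    nlinarith
  have h5 : 200 * (k * o) ≤ 9912 * d ^ 4 := by
    calc 200 * (k * o) = (100 * k) * (2 * o) := by ring
      _ ≤ (826 * N) * (3 * N) := Nat.mul_le_mul hk h3
      _ = 2478 * (N * N) := by ring
      _ ≤ 2478 * ((2 * d ^ 2) * (2 * d ^ 2)) := Nat.mul_le_mul_left _ (Nat.mul_le_mul hx hx)
      _ = _ := by ring
  have h6 := pow4_le hd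
  omega

/-- from the lower bound for the degrees -/
theorem x_le {n q d : ℕ} (hn : 1 ≤ n) (hq : 2 ≤ q) (h : q ^ n - q < (q + 1) * d ^ 2) : q ^ (n - 1) ≤ 2 * d ^ 2 := by
  by_contra hcon
  push Not at hcon
  have e : q ^ n = q * q ^ (n - 1) := by
    rw [← pow_succ', Nat.sub_add_cancel hn]
  rw [e] at h
  have h1 : q * (2 * d ^ 2 + 1) ≤ q * q ^ (n - 1) := Nat.mul_le_mul_left _ hcon
  have h2 : q * (2 * d ^ 2 + 1) = 2 * (q * d ^ 2) + q := by ring
  have h3 : (q + 1) * d ^ 2 ≤ 2 * (q * d ^ 2) := by nlinarith [Nat.zero_le (d ^ 2)]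
  omega

theorem fin {k o K d d0 b : ℕ} (hb : 1 ≤ b) (hd : d0 ≤ d) (hK : k * o ≤ K) (h : 2 * K ≤ b ^ (d0 - 1)) :
    2 * (k * o) ≤ b ^ (d - 1) :=
  (Nat.mul_le_mul_left 2 hK).trans (h.trans (Nat.pow_le_pow_right hb (by omega)))

/-- the order is divisible by 6 -/
theorem six_dvd {n q X : ℕ} (hn : 3 ≤ n) (hq : 1 ≤ q) (h : Nat.gcd n (q + 1) * ((q + 1) * X) =
    q ^ (n * (n - 1) / 2) * ∏ i ∈ Finset.range n, (if Even i then q ^ (i + 1) + 1 else q ^ (i + 1) - 1)) :
    6 ∣ X := by
  have h1 : q ∣ q ^ (n * (n - 1) / 2) := by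
    apply dvd_pow_self
    have : 3 * 2 ≤ n * (n - 1) := Nat.mul_le_mul hn (by omega)
    omega
  have h2 : (q + 1) * ((q ^ 2 - 1) * (q ^ 3 + 1)) ∣
      ∏ i ∈ Finset.range n, (if Even i then q ^ (i + 1) + 1 else q ^ (i + 1) - 1) := by
    have e : (q + 1) * ((q ^ 2 - 1) * (q ^ 3 + 1)) =
        ∏ i ∈ Finset.range 3, (if Even i then q ^ (i + 1) + 1 else q ^ (i + 1) - 1) := by
      rw [Finset.prod_range_succ, Finset.prod_range_succ, Finset.prod_range_succ, Finset.prod_range_zero]
      norm_num [Nat.even_iff]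
      ring
    rw [e]
    exact Finset.prod_dvd_prod_of_subset _ _ _ (Finset.range_subset_range.2 hn)
  have h3 := mul_dvd_mul h1 h2
  rw [← h] at h3
  have h4 : 6 ∣ q * (q - 1) * (q + 1) := by
    obtain ⟨t, rfl⟩ : ∃ t, q = t + 1 := ⟨q - 1, by omega⟩
    rw [Nat.add_sub_cancel]
    have h5 : ∀ t : ZMod 6, (t + 1) * t * (t + 1 + 1) = 0 := by decide
    have h6 := h5 t
    rw [← ZMod.natCast_eq_zero_iff]
    push_cast
    exact h6
  obtain ⟨c, hc⟩ := h4
  have h7 : q * ((q + 1) * ((q ^ 2 - 1) * (q ^ 3 + 1))) = (q + 1) * (q + 1) * (6 * (c * (q ^ 2 - q + 1))) := by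
    have e1 : q ^ 2 - 1 = (q - 1) * (q + 1) := by
      obtain ⟨t, rfl⟩ : ∃ t, q = t + 1 := ⟨q - 1, by omega⟩
      rw [Nat.add_sub_cancel]
      have : (t + 1) ^ 2 = t * (t + 1 + 1) + 1 := by ring
      omega
    have e2 : q ^ 3 + 1 = (q + 1) * (q ^ 2 - q + 1) := by
      obtain ⟨t, rfl⟩ : ∃ t, q = t + 1 := ⟨q - 1, by omega⟩
      have : (t + 1) ^ 2 - (t + 1) = t * (t + 1) := by
        have : (t + 1) ^ 2 = t * (t + 1) + (t + 1) := by ring
        omega
      rw [this]
      ring
    rw [e1, e2]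
    calc q * ((q + 1) * ((q - 1) * (q + 1) * ((q + 1) * (q ^ 2 - q + 1)))) =
        (q + 1) * (q + 1) * ((q * (q - 1) * (q + 1)) * (q ^ 2 - q + 1)) := by ring
      _ = _ := by rw [hc]; ring
  rw [h7] at h3
  have h8 : Nat.gcd n (q + 1) ∣ q + 1 := Nat.gcd_dvd_right _ _
  have hg : 0 < Nat.gcd n (q + 1) := Nat.gcd_pos_of_pos_right _ (by omega)
  obtain ⟨u, hu⟩ := h8
  have h9 : Nat.gcd n (q + 1) * ((q + 1) * 6) ∣ Nat.gcd n (q + 1) * ((q + 1) * X) := by
    refine dvd_trans ?_ h3
    refine ⟨u * (c * (q ^ 2 - q + 1)), ?_⟩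
    generalize Nat.gcd n (q + 1) = g at hu
    calc (q + 1) * (q + 1) * (6 * (c * (q ^ 2 - q + 1))) = (g * u) * (q + 1) * (6 * (c * (q ^ 2 - q + 1))) := by
          rw [← hu]
      _ = _ := by ring
  exact Nat.dvd_of_mul_dvd_mul_left (by omega) (Nat.dvd_of_mul_dvd_mul_left hg h9)

/-- one of the finitely many small cases -/
theorem case_le {n q f o k d : ℕ} (f0 k0 o0 d0 b : ℕ) (hb : 1 ≤ b) (hf : f ≤ f0) (hk : 100 * k ≤ 826 * q ^ (n - 1))
    (hk0 : 826 * q ^ (n - 1) < 100 * (k0 + 1)) (ho : o = Nat.gcd n (q + 1) * (2 * f))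
    (ho0 : Nat.gcd n (q + 1) * (2 * f0) ≤ o0) (hd : q ^ n - q < (q + 1) * d ^ 2)
    (hd0 : (q + 1) * (d0 - 1) ^ 2 ≤ q ^ n - q) (hn : 2 * (k0 * o0) ≤ b ^ (d0 - 1)) : 2 * (k * o) ≤ b ^ (d - 1) := by
  have h1 : k ≤ k0 := by omega
  have h2 : o ≤ o0 := by
    rw [ho]
    exact (Nat.mul_le_mul_left _ (Nat.mul_le_mul_left 2 hf)).trans ho0
  have h3 : d0 ≤ d := by
    by_contra hcon
    have h4 : d ^ 2 ≤ (d0 - 1) ^ 2 := Nat.pow_le_pow_left (by omega) 2
    have h5 : (q + 1) * d ^ 2 ≤ (q + 1) * (d0 - 1) ^ 2 := Nat.mul_le_mul_left _ h4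
    omega
  exact fin hb h3 (Nat.mul_le_mul h1 h2) hn

/-- the small cases -/
theorem small {n q f o k d b : ℕ} (hb5 : 5 ≤ b) (hn : 3 ≤ n) (hq : 2 ≤ q) (hf2 : 2 ^ f ≤ q)
    (hb11 : (n = 3 ∧ q = 5) ∨ (n = 6 ∧ q = 2) → 11 ≤ b)
    (hk : 100 * k ≤ 826 * q ^ (n - 1)) (ho : o = Nat.gcd n (q + 1) * (2 * f)) (hd : q ^ n - q < (q + 1) * d ^ 2)
    (hx : q ^ (n - 1) ≤ 162) (h32 : ¬ (n = 3 ∧ q = 2)) (h33 : ¬ (n = 3 ∧ q = 3)) (h34 : ¬ (n = 3 ∧ q = 4))
    (h42 : ¬ (n = 4 ∧ q = 2)) (h43 : ¬ (n = 4 ∧ q = 3)) (h52 : ¬ (n = 5 ∧ q = 2)) : 2 * (k * o) ≤ b ^ (d - 1) := by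
  have hn9 : n < 9 := by
    by_contra hcon
    have : 2 ^ 8 ≤ q ^ (n - 1) := (Nat.pow_le_pow_left hq 8).trans (Nat.pow_le_pow_right (by omega) (by omega))
    omega
  have hq13 : q < 13 := by
    by_contra hcon
    have : 13 ^ 2 ≤ q ^ (n - 1) :=
      (Nat.pow_le_pow_left (by omega) 2).trans (Nat.pow_le_pow_right (by omega) (by omega))
    omega
  have hf4 : f < 4 := by
    by_contra hcon
    have : 2 ^ 4 ≤ 2 ^ f := Nat.pow_le_pow_right (by norm_num) (by omega)
    omega
  have up : 2 * (k * o) ≤ 5 ^ (d - 1) → 2 * (k * o) ≤ b ^ (d - 1) := fun h =>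
    h.trans (Nat.pow_le_pow_left hb5 _)
  have up' : 11 ≤ b → 2 * (k * o) ≤ 11 ^ (d - 1) → 2 * (k * o) ≤ b ^ (d - 1) := fun hb h =>
    h.trans (Nat.pow_le_pow_left hb _)
  interval_cases n
  · -- `n = 3`
    have hqn : q < 13 := by
      by_contra hcon
      have : 13 ^ 2 ≤ q ^ (3 - 1) := Nat.pow_le_pow_left (by omega) 2
      omega
    interval_cases q
    · omega
    · omega
    · omega
    · have hf0 : f ≤ 2 := by
        by_contra hcon
        have : 2 ^ 3 ≤ 2 ^ f := Nat.pow_le_pow_right (by norm_num) (by omega)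
        omega
      exact up' (hb11 (by norm_num)) (case_le 2 206 12 5 11 (by norm_num) hf0 hk (by norm_num) ho (by norm_num) hd
        (by norm_num) (by norm_num))
    · have hf0 : f ≤ 2 := by
        by_contra hcon
        have : 2 ^ 3 ≤ 2 ^ f := Nat.pow_le_pow_right (by norm_num) (by omega)
        omega
      exact up (case_le 2 297 4 6 5 (by norm_num) hf0 hk (by norm_num) ho (by norm_num) hd (by norm_num) (by norm_num))
    · have hf0 : f ≤ 2 := by
        by_contra hcon
        have : 2 ^ 3 ≤ 2 ^ f := Nat.pow_le_pow_right (by norm_num) (by omega)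
        omega
      exact up (case_le 2 404 4 7 5 (by norm_num) hf0 hk (by norm_num) ho (by norm_num) hd (by norm_num) (by norm_num))
    · have hf0 : f ≤ 3 := by
        by_contra hcon
        have : 2 ^ 4 ≤ 2 ^ f := Nat.pow_le_pow_right (by norm_num) (by omega)
        omega
      exact up (case_le 3 528 18 8 5 (by norm_num) hf0 hk (by norm_num) ho (by norm_num) hd (by norm_num) (by norm_num))
    · have hf0 : f ≤ 3 := by
        by_contra hcon
        have : 2 ^ 4 ≤ 2 ^ f := Nat.pow_le_pow_right (by norm_num) (by omega)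
        omega
      exact up (case_le 3 669 6 9 5 (by norm_num) hf0 hk (by norm_num) ho (by norm_num) hd (by norm_num) (by norm_num))
    · have hf0 : f ≤ 3 := by
        by_contra hcon
        have : 2 ^ 4 ≤ 2 ^ f := Nat.pow_le_pow_right (by norm_num) (by omega)
        omega
      exact up (case_le 3 826 6 10 5 (by norm_num) hf0 hk (by norm_num) ho (by norm_num) hd (by norm_num) (by norm_num))
    · have hf0 : f ≤ 3 := by
        by_contra hcon
        have : 2 ^ 4 ≤ 2 ^ f := Nat.pow_le_pow_right (by norm_num) (by omega)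
        omega
      exact up (case_le 3 999 18 11 5 (by norm_num) hf0 hk (by norm_num) ho (by norm_num) hd (by norm_num) (by norm_num))
    · have hf0 : f ≤ 3 := by
        by_contra hcon
        have : 2 ^ 4 ≤ 2 ^ f := Nat.pow_le_pow_right (by norm_num) (by omega)
        omega
      exact up (case_le 3 1189 6 12 5 (by norm_num) hf0 hk (by norm_num) ho (by norm_num) hd (by norm_num) (by norm_num))
  · -- `n = 4`
    have hqn : q < 6 := by
      by_contra hcon
      have : 6 ^ 3 ≤ q ^ (4 - 1) := Nat.pow_le_pow_left (by omega) 3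
      omega
    interval_cases q
    · omega
    · omega
    · have hf0 : f ≤ 2 := by
        by_contra hcon
        have : 2 ^ 3 ≤ 2 ^ f := Nat.pow_le_pow_right (by norm_num) (by omega)
        omega
      exact up (case_le 2 528 4 8 5 (by norm_num) hf0 hk (by norm_num) ho (by norm_num) hd (by norm_num) (by norm_num))
    · have hf0 : f ≤ 2 := by
        by_contra hcon
        have : 2 ^ 3 ≤ 2 ^ f := Nat.pow_le_pow_right (by norm_num) (by omega)
        omega
      exact up (case_le 2 1032 8 11 5 (by norm_num) hf0 hk (by norm_num) ho (by norm_num) hd (by norm_num) (by norm_num))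
  · -- `n = 5`
    have hqn : q < 4 := by
      by_contra hcon
      have : 4 ^ 4 ≤ q ^ (5 - 1) := Nat.pow_le_pow_left (by omega) 4
      omega
    interval_cases q
    · omega
    · have hf0 : f ≤ 1 := by
        by_contra hcon
        have : 2 ^ 2 ≤ 2 ^ f := Nat.pow_le_pow_right (by norm_num) (by omega)
        omega
      exact up (case_le 1 669 2 8 5 (by norm_num) hf0 hk (by norm_num) ho (by norm_num) hd (by norm_num) (by norm_num))
  · -- `n = 6`
    have hqn : q < 3 := by
      by_contra hcon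
      have : 3 ^ 5 ≤ q ^ (6 - 1) := Nat.pow_le_pow_left (by omega) 5
      omega
    interval_cases q
    · have hf0 : f ≤ 1 := by
        by_contra hcon
        have : 2 ^ 2 ≤ 2 ^ f := Nat.pow_le_pow_right (by norm_num) (by omega)
        omega
      exact up' (hb11 (by norm_num)) (case_le 1 264 6 5 11 (by norm_num) hf0 hk (by norm_num) ho (by norm_num) hd
        (by norm_num) (by norm_num))
  · -- `n = 7`
    have hqn : q < 3 := by
      by_contra hcon
      have : 3 ^ 6 ≤ q ^ (7 - 1) := Nat.pow_le_pow_left (by omega) 6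
      omega
    interval_cases q
    · have hf0 : f ≤ 1 := by
        by_contra hcon
        have : 2 ^ 2 ≤ 2 ^ f := Nat.pow_le_pow_right (by norm_num) (by omega)
        omega
      exact up (case_le 1 528 2 7 5 (by norm_num) hf0 hk (by norm_num) ho (by norm_num) hd (by norm_num) (by norm_num))
  · -- `n = 8`
    have hqn : q < 3 := by
      by_contra hcon
      have : 3 ^ 7 ≤ q ^ (8 - 1) := Nat.pow_le_pow_left (by omega) 7
      omega
    interval_cases q
    · have hf0 : f ≤ 1 := by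
        by_contra hcon
        have : 2 ^ 2 ≤ 2 ^ f := Nat.pow_le_pow_right (by norm_num) (by omega)
        omega
      exact up (case_le 1 1057 2 10 5 (by norm_num) hf0 hk (by norm_num) ho (by norm_num) hd (by norm_num) (by norm_num))

variable {F : Type} [Field F] [Fintype F]

theorem two_pow_le {p f : ℕ} (hp : 2 ≤ p) : 2 ^ f ≤ p ^ f := Nat.pow_le_pow_left hp f

theorem lin_le {f q : ℕ} (hf : 1 ≤ f) (h : 2 ^ f ≤ q) : f * 2 ≤ q := by
  obtain ⟨k, rfl⟩ : ∃ k, f = k + 1 := ⟨f - 1, by omega⟩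
  rw [pow_succ] at h
  have : k < 2 ^ k := Nat.lt_two_pow_self
  omega

open Cfsg.Agent.H152.Model in
/-- the numerical part -/
theorem aux {n q f X k o : ℕ} (hn : 3 ≤ n) (hf : 1 ≤ f) (hf2 : 2 ^ f ≤ q) (h32 : ¬ (n = 3 ∧ q = 2))
    (hcP : Nat.gcd n (q + 1) * ((q + 1) * X) =
      q ^ (n * (n - 1) / 2) * ∏ i ∈ Finset.range n, (if Even i then q ^ (i + 1) + 1 else q ^ (i + 1) - 1))
    (ho : o = Nat.gcd n (q + 1) * (2 * f)) (hk : 100 * k ≤ 826 * q ^ (n - 1))
    (hkc : Nat.Coprime n (q + 1) → k * (q + 1) ≤ K (w (q + 1) q) n n)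
    {p' g d : ℕ} (hpp : p'.Prime) (hg : 1 ≤ g) (hd3 : 3 ≤ d) (hpN : ¬ p' ∣ X)
    (hdvd : X ∣ ∏ i ∈ Finset.Icc 2 d, ((p' ^ g) ^ i - 1))
    (hdeg : ¬ (n = 4 ∧ q = 2) → ¬ (n = 4 ∧ q = 3) → q ^ n - q < (q + 1) * d ^ 2) :
    2 * g * (p' ^ g - 1) * (k * o) ≤ (p' ^ g) ^ d := by
  have hf3 := lin_le hf hf2
  have hq2 : 2 ≤ q := by omega
  have h6 : 6 ∣ X := six_dvd hn (by omega) hcP
  have hp5 : 5 ≤ p' := H528.KGV.five_le (dvd_trans (by norm_num) h6) (dvd_trans (by norm_num) h6) hpp hpN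
  -- `U_4(2)`
  by_cases h42 : n = 4 ∧ q = 2
  · obtain ⟨rfl, rfl⟩ := h42
    have hN : X = 25920 := by
      simp only [Finset.prod_range_succ, Finset.prod_range_zero] at hcP
      norm_num [Nat.even_iff] at hcP
      omega
    have hkk := hkc (by decide)
    have hK : K (w (2 + 1) 2) 4 4 = 60 := by decide
    rw [hK] at hkk
    have hf1 : f = 1 := by omega
    subst hf1
    norm_num at ho
    have hKo : k * o ≤ 40 := by
      rw [ho]; omega
    rw [hN] at hpN hdvd
    exact (Nat.mul_le_mul_left _ hKo).trans (special (N := 25920) (K := 40) (b := 7) (D := 3) (D1 := 4) (P1 := 9)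
      (by norm_num) (by norm_num) (by decide +kernel) (by norm_num) (by norm_num) (by norm_num) (by decide +kernel)
      hpp hg hd3 hpN hdvd)
  -- `U_4(3)`
  by_cases h43 : n = 4 ∧ q = 3
  · obtain ⟨rfl, rfl⟩ := h43
    have hN : X = 3265920 := by
      simp only [Finset.prod_range_succ, Finset.prod_range_zero] at hcP
      norm_num [Nat.even_iff] at hcP
      omega
    have hf1 : f = 1 := by omega
    subst hf1
    norm_num at ho hk
    have hKo : k * o ≤ 1784 := by
      rw [ho]; omega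
    rw [hN] at hpN hdvd
    exact (Nat.mul_le_mul_left _ hKo).trans (special (N := 3265920) (K := 1784) (b := 11) (D := 3) (D1 := 5)
      (P1 := 60) (by norm_num) (by norm_num) (by decide +kernel) (by norm_num) (by norm_num) (by norm_num)
      (by decide +kernel) hpp hg hd3 hpN hdvd)
  replace hdeg := hdeg h42 h43
  -- `U_3(3)`
  by_cases h33 : n = 3 ∧ q = 3
  · obtain ⟨rfl, rfl⟩ := h33
    have hN : X = 6048 := by
      simp only [Finset.prod_range_succ, Finset.prod_range_zero] at hcP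
      norm_num [Nat.even_iff] at hcP
      omega
    have hkk := hkc (by decide)
    have hK : K (w (3 + 1) 3) 3 3 = 56 := by decide
    rw [hK] at hkk
    have hf1 : f = 1 := by omega
    subst hf1
    norm_num at ho
    have hKo : k * o ≤ 28 := by
      rw [ho]; omega
    rw [hN] at hpN hdvd
    exact (Nat.mul_le_mul_left _ hKo).trans (special (N := 6048) (K := 28) (b := 5) (D := 3) (D1 := 4) (P1 := 8)
      (by norm_num) (by norm_num) (by decide +kernel) (by norm_num) (by norm_num) (by norm_num) (by decide +kernel)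
      hpp hg hd3 hpN hdvd)
  -- `U_3(4)`
  by_cases h34 : n = 3 ∧ q = 4
  · obtain ⟨rfl, rfl⟩ := h34
    have hN : X = 62400 := by
      simp only [Finset.prod_range_succ, Finset.prod_range_zero] at hcP
      norm_num [Nat.even_iff] at hcP
      omega
    have hkk := hkc (by decide)
    have hK : K (w (4 + 1) 4) 3 3 = 110 := by decide
    rw [hK] at hkk
    have hf1 : f ≤ 2 := by omega
    norm_num at ho
    have hKo : k * o ≤ 22 * 4 :=
      Nat.mul_le_mul (by omega) (by omega)
    rw [hN] at hpN hdvd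
    have hd4 : 4 ≤ d := by
      by_contra hcon
      have : d = 3 := by omega
      subst this
      norm_num at hdeg
    exact (Nat.mul_le_mul_left _ hKo).trans (special (N := 62400) (K := 22 * 4) (b := 7) (D := 4) (D1 := 4)
      (P1 := 7) (by norm_num) (by norm_num) (by decide +kernel) (by norm_num) (by norm_num) (by norm_num)
      (by decide +kernel) hpp hg hd4 hpN hdvd)
  -- `U_5(2)`
  by_cases h52 : n = 5 ∧ q = 2
  · obtain ⟨rfl, rfl⟩ := h52
    have hN : X = 13685760 := by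
      simp only [Finset.prod_range_succ, Finset.prod_range_zero] at hcP
      norm_num [Nat.even_iff] at hcP
      omega
    have hkk := hkc (by decide)
    have hK : K (w (2 + 1) 2) 5 5 = 141 := by decide
    rw [hK] at hkk
    have hf1 : f = 1 := by omega
    subst hf1
    norm_num at ho
    have hKo : k * o ≤ 94 := by
      rw [ho]; omega
    rw [hN] at hpN hdvd
    have hd4 : 4 ≤ d := by
      by_contra hcon
      have : d = 3 := by omega
      subst this
      norm_num at hdeg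
    exact (Nat.mul_le_mul_left _ hKo).trans (special (N := 13685760) (K := 94) (b := 7) (D := 4) (D1 := 4)
      (P1 := 7) (by norm_num) (by norm_num) (by decide +kernel) (by norm_num) (by norm_num) (by norm_num)
      (by decide +kernel) hpp hg hd4 hpN hdvd)
  -- the remaining groups
  have hx := x_le (by omega) hq2 hdeg
  rcases Nat.lt_or_ge d 10 with hd10 | hd10
  · have hx' : q ^ (n - 1) ≤ 162 := by
      have : d ^ 2 ≤ 9 ^ 2 := Nat.pow_le_pow_left (by omega) 2
      omega
    refine key (by omega : 2 ≤ p') le_rfl hg (by omega) (small (q := q) (n := n) (f := f) hp5 hn hq2 hf2 ?_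
      hk ho hdeg hx' h32 h33 h34 h42 h43 h52)
    rintro (⟨rfl, rfl⟩ | ⟨rfl, rfl⟩)
    · have hN : X = 126000 := by
        simp only [Finset.prod_range_succ, Finset.prod_range_zero] at hcP
        norm_num [Nat.even_iff] at hcP
        omega
      rw [hN] at hpN
      by_contra hcon
      have hp11 : p' < 11 := by omega
      clear hdvd
      interval_cases p' <;> norm_num at hpN
    · have hN : X = 9196830720 := by
        simp only [Finset.prod_range_succ, Finset.prod_range_zero] at hcP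
        norm_num [Nat.even_iff] at hcP
        omega
      rw [hN] at hpN
      by_contra hcon
      have hp11 : p' < 11 := by omega
      clear hdvd
      interval_cases p' <;> norm_num at hpN
  · exact key (by omega : 2 ≤ 5) hp5 hg (by omega) (num_gen hn hq2 (lin_le hf hf2) ho hk hx hd10)

/-- **the row for `PSU_n(q)`** -/
theorem main {n q : ℕ} (hF : Fintype.card F = q ^ 2) (hn : 3 ≤ n) (h32 : ¬ (n = 3 ∧ q = 2))
    (hs : IsSimpleGroup (Cfsg.PSU n F q)) (hna : ¬ IsMulCommutative (Cfsg.PSU n F q)) :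
    Row (Cfsg.PSU n F q) := by
  classical
  obtain ⟨p, f', hp, hf', hF'⟩ := exists_pf F
  have := Fact.mk hp
  obtain ⟨f, -, hq⟩ : ∃ f ≤ f', q = p ^ f := (Nat.dvd_prime_pow hp).1 (by
    rw [← hF', hF]; exact dvd_pow_self q (by norm_num))
  have hf : 1 ≤ f := by
    by_contra h0
    have : f = 0 := by omega
    subst this
    rw [hq, pow_zero, one_pow] at hF
    have := Fintype.one_lt_card (α := F)
    omega
  have : Finite (Cfsg.PSU n F q) := inferInstance
  have h1 := Cfsg.Agent.S0815.result (F := F) p f hf hq hF n hn h32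
  have ho := card_out_of_aut hna h1
  have hk0 : Nat.card (ConjClasses (Cfsg.PSU n F q)) ≤ Nat.card (ConjClasses (Cfsg.SU n F q)) :=
    card_conjClasses_le_of_surjective (QuotientGroup.mk' _) (QuotientGroup.mk'_surjective _)
  have hk : 100 * Nat.card (ConjClasses (Cfsg.PSU n F q)) ≤ 826 * q ^ (n - 1) :=
    (Nat.mul_le_mul_left _ hk0).trans (S2481.result (F := F) n q (by omega) hF).2
  have hcP := S0280.result (F := F) hF n (by omega)
  have hf2 : 2 ^ f ≤ q := by rw [hq]; exact two_pow_le hp.two_le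
  intro p' g d hsit
  refine aux hn hf hf2 h32 hcP ho hk (fun hc => (Nat.mul_le_mul_right _ hk0).trans (card_le_of_coprime hF hc))
    hsit.prime hsit.f_pos hsit.three_le hsit.coprime hsit.dvd ?_
  intro h42 h43
  rcases Nat.even_or_odd n with he | hodd
  · have hn4 : 4 ≤ n := by
      rcases hn.eq_or_lt with h | h
      · rw [← h] at he
        exact absurd he (by decide)
      · exact h
    have h1 := lt_of_min (perfect_of_simple hna) (QuotientGroup.mk' (Subgroup.center (Cfsg.SU n F q)))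
      (QuotientGroup.mk'_surjective _) (S2335.result (F := F) n q hn4 he hF
        ⟨fun h => h42 (by simpa using h), fun h => h43 (by simpa using h)⟩) hsit
    rw [Nat.div_lt_iff_lt_mul (by omega), mul_comm] at h1
    have hq1 : 1 ≤ q := Nat.one_le_two_pow.trans hf2
    omega
  · have h1 := lt_of_min (perfect_of_simple hna) (QuotientGroup.mk' (Subgroup.center (Cfsg.SU n F q)))
      (QuotientGroup.mk'_surjective _) (S2334.result (F := F) n q hn hodd hF
        (fun h => h32 (by simpa using h))) hsit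
    rw [Nat.div_lt_iff_lt_mul (by omega), mul_comm] at h1
    exact h1

theorem _root_.Cfsg.Agent.H517.Kgv.rowPSU : RowOf (fun T _ => IsPSU T) := by
  rintro T _ _ _ hT ⟨F, _, _, n, q, hF, hn, h32, ⟨e⟩⟩
  have hs : IsSimpleGroup (Cfsg.PSU n F q) := (MulEquiv.isSimpleGroup_congr e).1 inferInstance
  have hna : ¬ IsMulCommutative (Cfsg.PSU n F q) := by
    intro h
    apply hT
    refine ⟨⟨fun a b => ?_⟩⟩
    apply e.injective
    rw [map_mul, map_mul]
    exact h.is_comm.comm _ _
  exact row_congr e (main hF hn h32 hs hna)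

end Cfsg.Agent.H517.Kgv.PSU
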