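import Cfsg.Agent.H517.Kgv.Tools
import Cfsg.Agent.H934.OutCl
import Cfsg.Agent.S0245
import Cfsg.Agent.S0246
import Cfsg.Agent.S0814
import Cfsg.Agent.S2482
import Cfsg.Agent.S2557
import Cfsg.Agent.S2333
import Cfsg.Agent.S2347

set_option autoImplicit false

/-!
# TEAM KGV: the row `PSp_2n(q)` (helper517)
-/

namespace Cfsg.Agent.H517.Kgv.PSp

open Cfsg Cfsg.Agent.H960.KGV Cfsg.Agent.H540.ClassNum Cfsg.Agent.H934.OutB Cfsg.Agent.H934.OutCl Matrix

/-! ### arithmetic -/

theorem lin_le {f q : ℕ} (hf : 1 ≤ f) (h : 2 ^ f ≤ q) : f * 2 ≤ q := by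
  obtain ⟨k, rfl⟩ : ∃ k, f = k + 1 := ⟨f - 1, by omega⟩
  rw [pow_succ] at h
  have : k < 2 ^ k := Nat.lt_two_pow_self
  omega

theorem cube_le {d : ℕ} (hd : 8 ≤ d) : 65 * d ^ 3 ≤ 5 ^ (d - 1) := by
  induction d, hd using Nat.le_induction with
  | base => norm_num
  | succ m hm ih =>
    have e : m + 1 - 1 = (m - 1) + 1 := by omega
    rw [e, pow_succ 5]
    have h1 : 8 * (m + 1) ≤ 9 * m := by omega
    have h2 : (8 * (m + 1)) ^ 3 ≤ (9 * m) ^ 3 := Nat.pow_le_pow_left h1 3
    rw [mul_pow, mul_pow] at h2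
    norm_num at h2
    generalize (m + 1) ^ 3 = a at h2 ⊢
    generalize m ^ 3 = b at h2 ih ⊢
    omega

theorem sq_le {d : ℕ} (hd : 7 ≤ d) : 109 * d ^ 2 ≤ 5 ^ (d - 1) := by
  induction d, hd using Nat.le_induction with
  | base => norm_num
  | succ m hm ih =>
    have e : m + 1 - 1 = (m - 1) + 1 := by omega
    rw [e, pow_succ 5]
    have h1 : (m + 1) ^ 2 ≤ 2 * m ^ 2 := by nlinarith
    omega

theorem sq_le' {d : ℕ} (hd : 6 ≤ d) : 70 * d ^ 2 ≤ 5 ^ (d - 1) := by
  induction d, hd using Nat.le_induction with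
  | base => norm_num
  | succ m hm ih =>
    have e : m + 1 - 1 = (m - 1) + 1 := by omega
    rw [e, pow_succ 5]
    have h1 : (m + 1) ^ 2 ≤ 2 * m ^ 2 := by nlinarith
    omega

theorem odd_gen {n q f k o d : ℕ} (hn : 2 ≤ n) (hq : 1 ≤ q) (hf : f * 2 ≤ q) (ho : o ≤ 2 * f)
    (hk : 5 * k ≤ 54 * q ^ n) (hx : q ^ n ≤ 2 * d ^ 2) (hd : 8 ≤ d) : 2 * (k * o) ≤ 5 ^ (d - 1) := by
  have h2 : q ^ 2 ≤ q ^ n := Nat.pow_le_pow_right hq hn
  have h3 : 2 * q ≤ 3 * d := by nlinarith
  have h5 : 10 * (k * o) ≤ 324 * d ^ 3 := by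
    calc 10 * (k * o) = (5 * k) * (2 * o) := by ring
      _ ≤ (54 * (2 * d ^ 2)) * (3 * d) := Nat.mul_le_mul (hk.trans (Nat.mul_le_mul_left _ hx)) (by omega)
      _ = _ := by ring
  have h6 := cube_le hd
  omega

theorem even_two {q f k o d : ℕ} (hq : 4 ≤ q) (hf : f * 2 ≤ q) (ho : o ≤ 2 * f)
    (hk : 5 * k ≤ 76 * q ^ 2) (hx : q * (q - 1) ^ 2 < 2 * d ^ 2) (hd : 7 ≤ d) : 2 * (k * o) ≤ 5 ^ (d - 1) := by
  obtain ⟨t, rfl⟩ : ∃ t, q = t + 1 := ⟨q - 1, by omega⟩
  rw [Nat.add_sub_cancel] at hx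
  have h1 : 9 * (t + 1) ^ 2 ≤ 16 * t ^ 2 := by nlinarith
  have h2 : 9 * (t + 1) ^ 3 ≤ 32 * d ^ 2 := by
    calc 9 * (t + 1) ^ 3 = (t + 1) * (9 * (t + 1) ^ 2) := by ring
      _ ≤ (t + 1) * (16 * t ^ 2) := Nat.mul_le_mul_left _ h1
      _ = 16 * ((t + 1) * t ^ 2) := by ring
      _ ≤ 16 * (2 * d ^ 2) := Nat.mul_le_mul_left _ hx.le
      _ = _ := by ring
  have h5 : 45 * (k * o) ≤ 2432 * d ^ 2 := by
    calc 45 * (k * o) = 9 * ((5 * k) * o) := by ring
      _ ≤ 9 * ((76 * (t + 1) ^ 2) * (t + 1)) := Nat.mul_le_mul_left _ (Nat.mul_le_mul hk (by omega))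
      _ = 76 * (9 * (t + 1) ^ 3) := by ring
      _ ≤ 76 * (32 * d ^ 2) := Nat.mul_le_mul_left _ h2
      _ = _ := by ring
  have h6 := sq_le hd
  omega

theorem even_aux {n q d : ℕ} (hn : 3 ≤ n) (hq : 2 ≤ q) (hx : (q ^ n - 1) * (q ^ n - q) < d ^ 2 * (2 * (q + 1))) :
    7 * (q ^ n) ^ 2 < 32 * (q * d ^ 2) := by
  have h1 : q ^ 3 ≤ q ^ n := Nat.pow_le_pow_right (by omega) hn
  have h2 : 4 * q ≤ q ^ 3 := by
    calc 4 * q = 2 * 2 * q := by ring
      _ ≤ q * q * q := Nat.mul_le_mul_right _ (Nat.mul_le_mul hq hq)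
      _ = q ^ 3 := by ring
  generalize q ^ n = x at *
  have h8 : 8 ≤ x := by omega
  have h3 : 7 * x ≤ 8 * (x - 1) := by omega
  have h4 : 3 * x ≤ 4 * (x - q) := by omega
  have h5 : (7 * x) * (3 * x) ≤ (8 * (x - 1)) * (4 * (x - q)) := Nat.mul_le_mul h3 h4
  have h6 : 21 * x ^ 2 < 96 * (q * d ^ 2) := by
    calc 21 * x ^ 2 = (7 * x) * (3 * x) := by ring
      _ ≤ (8 * (x - 1)) * (4 * (x - q)) := h5
      _ = 32 * ((x - 1) * (x - q)) := by ring
      _ < 32 * (d ^ 2 * (2 * (q + 1))) := Nat.mul_lt_mul_of_pos_left hx (by norm_num)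
      _ = 32 * d ^ 2 * (2 * (q + 1)) := by ring
      _ ≤ 32 * d ^ 2 * (3 * q) := Nat.mul_le_mul_left _ (by omega)
      _ = _ := by ring
  omega

theorem even_gen {n q f k o d : ℕ} (hn : 3 ≤ n) (hq : 2 ≤ q) (hf : f * 2 ≤ q) (ho : o ≤ f)
    (hk : 5 * k ≤ 76 * q ^ n) (hx : 7 * (q ^ n) ^ 2 < 32 * (q * d ^ 2)) (hd : 6 ≤ d) :
    2 * (k * o) ≤ 5 ^ (d - 1) := by
  have h1 : q ^ 2 ≤ q ^ n := Nat.pow_le_pow_right (by omega) (by omega)
  have h2 : 7 * (q ^ n * q) < 32 * d ^ 2 := by
    have h3 : q * (7 * (q ^ n * q)) < q * (32 * d ^ 2) := by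
      calc q * (7 * (q ^ n * q)) = 7 * (q ^ n * q ^ 2) := by ring
        _ ≤ 7 * (q ^ n * q ^ n) := Nat.mul_le_mul_left _ (Nat.mul_le_mul_left _ h1)
        _ = 7 * (q ^ n) ^ 2 := by ring
        _ < 32 * (q * d ^ 2) := hx
        _ = _ := by ring
    exact lt_of_mul_lt_mul_left h3 (Nat.zero_le _)
  have h5 : 70 * (k * o) ≤ 2432 * d ^ 2 := by
    calc 70 * (k * o) = 7 * ((5 * k) * (2 * o)) := by ring
      _ ≤ 7 * ((76 * q ^ n) * q) := Nat.mul_le_mul_left _ (Nat.mul_le_mul hk (by omega))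
      _ = 76 * (7 * (q ^ n * q)) := by ring
      _ ≤ 76 * (32 * d ^ 2) := Nat.mul_le_mul_left _ h2.le
      _ = _ := by ring
  have h6 := sq_le' hd
  omega

/-- the order is divisible by 6 -/
theorem six_dvd {n q X : ℕ} (hn : 2 ≤ n) (hq : 1 ≤ q)
    (h : Nat.gcd 2 (q - 1) * X = q ^ (n ^ 2) * ∏ i ∈ Finset.range n, (q ^ (2 * (i + 1)) - 1)) : 6 ∣ X := by
  have h1 : q ∣ q ^ (n ^ 2) := dvd_pow_self q (by positivity)
  have h2 : (q ^ 2 - 1) * (q ^ 4 - 1) ∣ ∏ i ∈ Finset.range n, (q ^ (2 * (i + 1)) - 1) := by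
    have e : (q ^ 2 - 1) * (q ^ 4 - 1) = ∏ i ∈ Finset.range 2, (q ^ (2 * (i + 1)) - 1) := by
      rw [Finset.prod_range_succ, Finset.prod_range_succ, Finset.prod_range_zero]
      norm_num
    rw [e]
    exact Finset.prod_dvd_prod_of_subset _ _ _ (Finset.range_subset_range.2 hn)
  have h3 := mul_dvd_mul h1 h2
  rw [← h] at h3
  have h4 : 6 * Nat.gcd 2 (q - 1) ∣ q * ((q ^ 2 - 1) * (q ^ 4 - 1)) := by
    obtain ⟨t, rfl⟩ : ∃ t, q = t + 1 := ⟨q - 1, by omega⟩
    rw [Nat.add_sub_cancel] at *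
    have h5 : Nat.gcd 2 t ∣ 2 := Nat.gcd_dvd_left _ _
    have e1 : (t + 1) ^ 2 - 1 = t * (t + 2) := by
      have : (t + 1) ^ 2 = t * (t + 2) + 1 := by ring
      omega
    have e2 : (t + 1) ^ 4 - 1 = t * (t + 2) * ((t + 1) ^ 2 + 1) := by
      have : (t + 1) ^ 4 = t * (t + 2) * ((t + 1) ^ 2 + 1) + 1 := by ring
      omega
    rw [e1, e2]
    have h6 : Nat.gcd 2 t ∣ t := Nat.gcd_dvd_right _ _
    have h7 : 6 ∣ (t + 1) * t * (t + 2) := by
      have h5 : ∀ t : ZMod 6, (t + 1) * t * (t + 2) = 0 := by decide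
      have h6 := h5 t
      rw [← ZMod.natCast_eq_zero_iff]
      push_cast
      exact h6
    have h8 := mul_dvd_mul h7 h6
    refine h8.trans ⟨(t + 2) * ((t + 1) ^ 2 + 1), by ring⟩
  have h5 := h4.trans h3
  have hg : 0 < Nat.gcd 2 (q - 1) := Nat.gcd_pos_of_pos_left _ (by norm_num)
  rw [mul_comm] at h5
  exact Nat.dvd_of_mul_dvd_mul_left hg h5

/-- the numerical part, `q` odd -/
theorem aux_odd {n q f X k o : ℕ} (hn : 2 ≤ n) (hf : 1 ≤ f) (hf3 : 3 ^ f ≤ q) (hodd : Odd q)
    (hcP : Nat.gcd 2 (q - 1) * X = q ^ (n ^ 2) * ∏ i ∈ Finset.range n, (q ^ (2 * (i + 1)) - 1))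
    (ho : o ≤ 2 * f) (hk : 5 * k ≤ 54 * q ^ n)
    {p' g d : ℕ} (hpp : p'.Prime) (hg : 1 ≤ g) (hd3 : 3 ≤ d) (hpN : ¬ p' ∣ X)
    (hdvd : X ∣ ∏ i ∈ Finset.Icc 2 d, ((p' ^ g) ^ i - 1)) (hx : q ^ n ≤ 2 * d ^ 2) :
    2 * g * (p' ^ g - 1) * (k * o) ≤ (p' ^ g) ^ d := by
  have hf2 : 2 ^ f ≤ q := (Nat.pow_le_pow_left (by norm_num) f).trans hf3
  have hfl := lin_le hf hf2
  have hq3 : 3 ≤ q := by
    have : 3 ^ 1 ≤ 3 ^ f := Nat.pow_le_pow_right (by norm_num) hf
    omega
  have h6 : 6 ∣ X := six_dvd hn (by omega) hcP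
  have hp5 : 5 ≤ p' := H528.KGV.five_le (dvd_trans (by norm_num) h6) (dvd_trans (by norm_num) h6) hpp hpN
  rcases Nat.lt_or_ge d 8 with hd8 | hd8
  · have hx' : q ^ n ≤ 98 := by
      have : d ^ 2 ≤ 7 ^ 2 := Nat.pow_le_pow_left (by omega) 2
      omega
    have hn5 : n < 5 := by
      by_contra hcon
      have : 3 ^ 5 ≤ q ^ n := (Nat.pow_le_pow_left hq3 5).trans (Nat.pow_le_pow_right (by omega) (by omega))
      omega
    have hq10 : q < 10 := by
      by_contra hcon
      have : 10 ^ 2 ≤ q ^ n := (Nat.pow_le_pow_left (by omega) 2).trans (Nat.pow_le_pow_right (by omega) hn)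
      omega
    have hf3' : f < 3 := by
      by_contra hcon
      have : 3 ^ 3 ≤ 3 ^ f := Nat.pow_le_pow_right (by norm_num) (by omega)
      omega
    have hf1 : q < 9 → f = 1 := by
      intro hq9
      by_contra hcon
      have : 3 ^ 2 ≤ 3 ^ f := Nat.pow_le_pow_right (by norm_num) (by omega)
      omega
    obtain ⟨j, hj⟩ := hodd
    have hqq : q = 3 ∨ q = 5 ∨ q = 7 ∨ q = 9 := by omega
    interval_cases n
    · rcases hqq with rfl | rfl | rfl | rfl
      · -- `PSp_4(3)`
        have hN : X = 25920 := by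
          simp only [Finset.prod_range_succ, Finset.prod_range_zero] at hcP
          norm_num at hcP
          omega
        rw [hN] at hpN hdvd
        have := hf1 (by norm_num)
        subst this
        have hKo : k * o ≤ 97 * 2 := Nat.mul_le_mul (by omega) ho
        exact (Nat.mul_le_mul_left _ hKo).trans (special (N := 25920) (K := 97 * 2) (b := 7) (D := 3) (D1 := 5)
          (P1 := 20) (by norm_num) (by norm_num) (by decide +kernel) (by norm_num) (by norm_num) (by norm_num)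
          (by decide +kernel) hpp hg hd3 hpN hdvd)
      · -- `PSp_4(5)`
        have hN : X = 4680000 := by
          simp only [Finset.prod_range_succ, Finset.prod_range_zero] at hcP
          norm_num at hcP
          omega
        rw [hN] at hpN hdvd
        have := hf1 (by norm_num)
        subst this
        have hKo : k * o ≤ 270 * 2 := Nat.mul_le_mul (by omega) ho
        have hd4 : 4 ≤ d := by
          by_contra hcon
          have : d = 3 := by omega
          subst this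
          norm_num at hx
        exact (Nat.mul_le_mul_left _ hKo).trans (special (N := 4680000) (K := 270 * 2) (b := 7) (D := 4) (D1 := 5)
          (P1 := 11) (by norm_num) (by norm_num) (by decide +kernel) (by norm_num) (by norm_num) (by norm_num)
          (by decide +kernel) hpp hg hd4 hpN hdvd)
      · -- `PSp_4(7)`
        have hN : X = 138297600 := by
          simp only [Finset.prod_range_succ, Finset.prod_range_zero] at hcP
          norm_num at hcP
          omega
        rw [hN] at hpN hdvd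
        have := hf1 (by norm_num)
        subst this
        have hKo : k * o ≤ 529 * 2 := Nat.mul_le_mul (by omega) ho
        have hd5 : 5 ≤ d := by
          by_contra hcon
          interval_cases d <;> norm_num at hx
        exact (Nat.mul_le_mul_left _ hKo).trans (special (N := 138297600) (K := 529 * 2) (b := 7) (D := 5)
          (D1 := 5) (P1 := 7) (by norm_num) (by norm_num) (by decide +kernel) (by norm_num) (by norm_num)
          (by norm_num) (by decide +kernel) hpp hg hd5 hpN hdvd)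
      · -- `PSp_4(9)`
        have hKo : k * o ≤ 874 * 4 := Nat.mul_le_mul (by omega) (by omega)
        have hd7 : 7 ≤ d := by
          by_contra hcon
          interval_cases d <;> norm_num at hx
        exact key (by omega : 2 ≤ 5) hp5 hg (by omega) ((Nat.mul_le_mul_left 2 hKo).trans
          (le_trans (by norm_num : 2 * (874 * 4) ≤ 5 ^ (7 - 1)) (Nat.pow_le_pow_right (by norm_num) (by omega))))
    · have hq3 : q = 3 := by
        rcases hqq with rfl | rfl | rfl | rfl
        · rfl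
        all_goals norm_num at hx'
      subst hq3
      -- `PSp_6(3)`
      have hN : X = 4585351680 := by
        simp only [Finset.prod_range_succ, Finset.prod_range_zero] at hcP
        norm_num at hcP
        omega
      rw [hN] at hpN hdvd
      have := hf1 (by norm_num)
      subst this
      have hKo : k * o ≤ 291 * 2 := Nat.mul_le_mul (by omega) ho
      have hd4 : 4 ≤ d := by
        by_contra hcon
        have : d = 3 := by omega
        subst this
        norm_num at hx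
      exact (Nat.mul_le_mul_left _ hKo).trans (special (N := 4585351680) (K := 291 * 2) (b := 11) (D := 4)
        (D1 := 4) (P1 := 11) (by norm_num) (by norm_num) (by decide +kernel) (by norm_num) (by norm_num)
        (by norm_num) (by decide +kernel) hpp hg hd4 hpN hdvd)
    · have hq3 : q = 3 := by
        rcases hqq with rfl | rfl | rfl | rfl
        · rfl
        all_goals norm_num at hx'
      subst hq3
      -- `PSp_8(3)`
      have := hf1 (by norm_num)
      subst this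
      have hKo : k * o ≤ 874 * 2 := Nat.mul_le_mul (by omega) ho
      have hd7 : 7 ≤ d := by
        by_contra hcon
        interval_cases d <;> norm_num at hx
      exact key (by omega : 2 ≤ 5) hp5 hg (by omega) ((Nat.mul_le_mul_left 2 hKo).trans
        (le_trans (by norm_num : 2 * (874 * 2) ≤ 5 ^ (7 - 1)) (Nat.pow_le_pow_right (by norm_num) (by omega))))
  · exact key (by omega : 2 ≤ 5) hp5 hg (by omega) (odd_gen hn (by omega) hfl ho hk hx hd8)

/-- the numerical part, `q` even -/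
theorem aux_even {n q f X k o : ℕ} (hn : 2 ≤ n) (h22 : n = 2 → 3 ≤ q) (hf : 1 ≤ f) (hf2 : 2 ^ f = q)
    (hcP : Nat.gcd 2 (q - 1) * X = q ^ (n ^ 2) * ∏ i ∈ Finset.range n, (q ^ (2 * (i + 1)) - 1))
    (ho : o ≤ 2 * f) (ho' : n ≠ 2 → o ≤ f) (hk : 5 * k ≤ 76 * q ^ n)
    {p' g d : ℕ} (hpp : p'.Prime) (hg : 1 ≤ g) (hd3 : 3 ≤ d) (hpN : ¬ p' ∣ X)
    (hdvd : X ∣ ∏ i ∈ Finset.Icc 2 d, ((p' ^ g) ^ i - 1))
    (hx : (q ^ n - 1) * (q ^ n - q) < d ^ 2 * (2 * (q + 1))) :
    2 * g * (p' ^ g - 1) * (k * o) ≤ (p' ^ g) ^ d := by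
  have hfl := lin_le hf hf2.le
  have hq2 : 2 ≤ q := by omega
  have h6 : 6 ∣ X := six_dvd hn (by omega) hcP
  have hp5 : 5 ≤ p' := H528.KGV.five_le (dvd_trans (by norm_num) h6) (dvd_trans (by norm_num) h6) hpp hpN
  rcases hn.eq_or_lt with rfl | hn3
  · -- `n = 2`
    have hq3 := h22 rfl
    have hf2' : 2 ≤ f := by
      by_contra hcon
      have : f = 1 := by omega
      rw [this] at hf2
      omega
    have hq4 : 4 ≤ q := by
      rw [← hf2]
      calc 4 = 2 ^ 2 := by norm_num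
        _ ≤ 2 ^ f := Nat.pow_le_pow_right (by norm_num) hf2'
    have hx2 : q * (q - 1) ^ 2 < 2 * d ^ 2 := by
      obtain ⟨t, rfl⟩ : ∃ t, q = t + 1 := ⟨q - 1, by omega⟩
      rw [Nat.add_sub_cancel]
      have e1 : (t + 1) ^ 2 - 1 = t * (t + 2) := by
        have : (t + 1) ^ 2 = t * (t + 2) + 1 := by ring
        omega
      have e2 : (t + 1) ^ 2 - (t + 1) = t * (t + 1) := by
        have : (t + 1) ^ 2 = t * (t + 1) + (t + 1) := by ring
        omega
      rw [e1, e2] at hx
      have h3 : (t + 2) * ((t + 1) * t ^ 2) < (t + 2) * (2 * d ^ 2) := by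
        calc (t + 2) * ((t + 1) * t ^ 2) = t * (t + 2) * (t * (t + 1)) := by ring
          _ < d ^ 2 * (2 * (t + 1 + 1)) := hx
          _ = _ := by ring
      exact lt_of_mul_lt_mul_left h3 (Nat.zero_le _)
    rcases Nat.lt_or_ge d 7 with hd7 | hd7
    · have hq : q = 4 := by
        have h1 : d ^ 2 ≤ 6 ^ 2 := Nat.pow_le_pow_left (by omega) 2
        have h2 : q < 6 := by
          by_contra hcon
          have h3 : 5 ^ 2 ≤ (q - 1) ^ 2 := Nat.pow_le_pow_left (by omega) 2
          have h4 : 6 * 5 ^ 2 ≤ q * (q - 1) ^ 2 := Nat.mul_le_mul (by omega) h3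
          omega
        have h3 : q ≠ 5 := by
          rintro rfl
          have h4 : f < 3 := by omega
          have h5 : f = 2 := by omega
          rw [h5] at hf2
          norm_num at hf2
        omega
      subst hq
      have hN : X = 979200 := by
        simp only [Finset.prod_range_succ, Finset.prod_range_zero] at hcP
        norm_num at hcP
        omega
      rw [hN] at hpN hdvd
      have hf22 : f ≤ 2 := by omega
      have hKo : k * o ≤ 243 * 4 := Nat.mul_le_mul (by omega) (by omega)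
      have hd5 : 5 ≤ d := by
        by_contra hcon
        interval_cases d <;> norm_num at hx2
      exact (Nat.mul_le_mul_left _ hKo).trans (special (N := 979200) (K := 243 * 4) (b := 7) (D := 5)
        (D1 := 5) (P1 := 7) (by norm_num) (by norm_num) (by decide +kernel) (by norm_num) (by norm_num)
        (by norm_num) (by decide +kernel) hpp hg hd5 hpN hdvd)
    · exact key (by omega : 2 ≤ 5) hp5 hg (by omega) (even_two hq4 hfl ho hk hx2 hd7)
  · have hx3 := even_aux hn3 hq2 hx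
    have ho2 := ho' (by omega)
    rcases Nat.lt_or_ge d 6 with hd6 | hd6
    · have h1 : d ^ 2 ≤ 5 ^ 2 := Nat.pow_le_pow_left (by omega) 2
      have h2 : 7 * (q ^ n) ^ 2 < 800 * q := by nlinarith
      have h3 : q < 3 := by
        by_contra hcon
        have h4 : q ^ 3 ≤ q ^ n := Nat.pow_le_pow_right (by omega) hn3
        have h5 : (q ^ 3) ^ 2 ≤ (q ^ n) ^ 2 := Nat.pow_le_pow_left h4 2
        have h6 : q * 3 ^ 5 ≤ (q ^ 3) ^ 2 := by
          calc q * 3 ^ 5 ≤ q * q ^ 5 := Nat.mul_le_mul_left _ (Nat.pow_le_pow_left (by omega) 5)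
            _ = _ := by ring
        omega
      have hq : q = 2 := by omega
      subst hq
      have hn4 : n < 4 := by
        by_contra hcon
        have h4 : 2 ^ 4 ≤ 2 ^ n := Nat.pow_le_pow_right (by omega) (by omega)
        have h5 : (2 ^ 4) ^ 2 ≤ (2 ^ n) ^ 2 := Nat.pow_le_pow_left h4 2
        omega
      have hn' : n = 3 := by omega
      subst hn'
      have hN : X = 1451520 := by
        simp only [Finset.prod_range_succ, Finset.prod_range_zero] at hcP
        norm_num at hcP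
        omega
      rw [hN] at hpN hdvd
      have hKo : k * o ≤ 121 * 1 := Nat.mul_le_mul (by omega) (by omega)
      exact (Nat.mul_le_mul_left _ hKo).trans (special (N := 1451520) (K := 121 * 1) (b := 11) (D := 3)
        (D1 := 4) (P1 := 16) (by norm_num) (by norm_num) (by decide +kernel) (by norm_num) (by norm_num)
        (by norm_num) (by decide +kernel) hpp hg hd3 hpN hdvd)
    · exact key (by omega : 2 ≤ 5) hp5 hg (by omega) (even_gen hn3 hq2 hfl ho2 hk hx3 hd6)

variable {F : Type} [Field F] [Fintype F]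

theorem card_psp (m : ℕ) (hm : 1 ≤ m) : Nat.gcd 2 (Fintype.card F - 1) * Nat.card (Cfsg.PSp m F) =
    Fintype.card F ^ (m ^ 2) * ∏ i ∈ Finset.range m, (Fintype.card F ^ (2 * (i + 1)) - 1) := by
  have h1 := Cfsg.Agent.S0245.result (F := F) rfl m
  have h2 := Cfsg.Agent.S0246.result (F := F) rfl m hm
  have h3 := Subgroup.card_eq_card_quotient_mul_card_subgroup
    (Subgroup.center (Matrix.symplecticGroup (Fin m) F))
  rw [h1, h2] at h3
  rw [mul_comm]
  exact h3.symm

omit [Fintype F] in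
theorem card_out_le {m p f : ℕ}
    (h : Nat.card (Cfsg.Out (Cfsg.PSp m F)) =
      (if m = 2 ∧ p = 2 then 2 else 1) * Nat.gcd 2 (p ^ f - 1) * f) (hf : 1 ≤ f) :
    Nat.card (Cfsg.Out (Cfsg.PSp m F)) ≤ 2 * f ∧
      (p = 2 → m ≠ 2 → Nat.card (Cfsg.Out (Cfsg.PSp m F)) ≤ f) := by
  have hodd : p = 2 → Nat.gcd 2 (p ^ f - 1) = 1 := by
    rintro rfl
    have h6 : Odd (2 ^ f - 1) := by
      obtain ⟨k, rfl⟩ : ∃ k, f = k + 1 := ⟨f - 1, by omega⟩
      have : 0 < 2 ^ k := by positivity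
      rw [pow_succ]
      exact ⟨2 ^ k - 1, by omega⟩
    exact Nat.coprime_two_left.2 h6
  rw [h]
  constructor
  · apply Nat.mul_le_mul_right
    split_ifs with h'
    · rw [hodd h'.2]
    · rw [one_mul]
      exact Nat.gcd_le_left _ (by norm_num)
  · intro hp2 hm2
    rw [if_neg (fun h => hm2 h.1), hodd hp2, one_mul, one_mul]

/-- **the row for `PSp_2n(q)`** -/
theorem main {n : ℕ} (hn : 2 ≤ n) (h3 : n = 2 → 3 ≤ Fintype.card F)
    (hs : IsSimpleGroup (Cfsg.PSp n F)) (hna : ¬ IsMulCommutative (Cfsg.PSp n F)) : Row (Cfsg.PSp n F) := by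
  classical
  obtain ⟨p, f, hp, hf, hF⟩ := exists_pf F
  have := Fact.mk hp
  have : Finite (symplecticGroup (Fin n) F) := Subtype.finite
  have : Finite (Cfsg.PSp n F) := inferInstance
  have h1 := Cfsg.Agent.S0814.result (F := F) p f hf hF n hn (by rwa [hF] at h3)
  obtain ⟨ho, ho'⟩ := card_out_le (card_out_of_aut hna h1) hf
  have hk0 : Nat.card (ConjClasses (Cfsg.PSp n F)) ≤
      Nat.card (ConjClasses (symplecticGroup (Fin n) F)) :=
    card_conjClasses_le_of_surjective (QuotientGroup.mk' _) (QuotientGroup.mk'_surjective _)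
  have hcP := card_psp (F := F) n (by omega)
  intro p' g d hsit
  rcases hp.eq_two_or_odd' with hp2 | hpo
  · have heven : Even (Fintype.card F) := by
      rw [hF, hp2]
      exact (Nat.even_pow.2 ⟨_root_.even_two, by omega⟩)
    have hk : 5 * Nat.card (ConjClasses (Cfsg.PSp n F)) ≤ 76 * Fintype.card F ^ n :=
      (Nat.mul_le_mul_left _ hk0).trans (S2557.result (F := F) heven n (by omega)).2
    have h2 := lt_of_min (perfect_of_simple hna) (QuotientGroup.mk' (Subgroup.center (symplecticGroup (Fin n) F)))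
      (QuotientGroup.mk'_surjective _) (S2333.result (F := F) n hn heven (by
        intro h
        rw [Prod.mk.injEq] at h
        have := h3 h.1
        omega)) hsit
    rw [Nat.div_lt_iff_lt_mul (by omega)] at h2
    exact aux_even hn h3 hf (by rw [hF, hp2]) hcP ho (ho' hp2) hk hsit.prime hsit.f_pos hsit.three_le hsit.coprime
      hsit.dvd h2
  · have hodd : Odd (Fintype.card F) := by rw [hF]; exact hpo.pow
    have hp3 : 3 ≤ p := by
      have h2 := hp.two_le
      obtain ⟨k, hk⟩ := hpo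
      omega
    have hk : 5 * Nat.card (ConjClasses (Cfsg.PSp n F)) ≤ 54 * Fintype.card F ^ n :=
      (Nat.mul_le_mul_left _ hk0).trans (S2482.result (F := F) hodd n (by omega)).2
    have h2 := lt_of_min (perfect_of_simple hna) (QuotientGroup.mk' (Subgroup.center (symplecticGroup (Fin n) F)))
      (QuotientGroup.mk'_surjective _) (S2347.result (F := F) n hn hodd).1 hsit
    rw [Nat.div_lt_iff_lt_mul (by omega)] at h2
    exact aux_odd hn hf (by rw [hF]; exact Nat.pow_le_pow_left hp3 f) hodd hcP ho hk hsit.prime hsit.f_pos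
      hsit.three_le hsit.coprime hsit.dvd (by omega)

theorem _root_.Cfsg.Agent.H517.Kgv.rowPSp : RowOf (fun T _ => IsPSp T) := by
  rintro T _ _ _ hT ⟨F, _, _, m, hm, h3, ⟨e⟩⟩
  have hs : IsSimpleGroup (Cfsg.PSp m F) := (MulEquiv.isSimpleGroup_congr e).1 inferInstance
  have hna : ¬ IsMulCommutative (Cfsg.PSp m F) := by
    intro h
    apply hT
    refine ⟨⟨fun a b => ?_⟩⟩
    apply e.injective
    rw [map_mul, map_mul]
    exact h.is_comm.comm _ _
  exact row_congr e (main hm h3 hs hna)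

end Cfsg.Agent.H517.Kgv.PSp
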