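import Cfsg.Agent.H528.KGV.Tools
import Cfsg.Agent.CharDeep.LinearChar
import Cfsg.Agent.H912.Bd2

set_option autoImplicit false

/-!
# TEAM KGV: tools for the rows of the classical groups (helper517)

* `sit_congr`, `row_congr`;
* `exists_rep`: the complex representation given by `Sit.adj`;
* `lt_of_min`: `m < d ^ 2` from lower bounds `m` of the degrees of a covering group;
* `lt_of_bd`: the same from `Bd`;
* `key`: `2 K ≤ P ^ (d - 1)` gives the inequality of the row.
-/

namespace Cfsg.Agent.H517.Kgv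

open Cfsg Cfsg.Agent.H960.KGV

theorem sit_congr {T X : Type} [Group T] [Group X] (e : T ≃* X) {p f d : ℕ} (h : Sit T p f d) : Sit X p f d where
  prime := h.prime
  f_pos := h.f_pos
  three_le := h.three_le
  coprime := by rw [← Nat.card_congr e.toEquiv]; exact h.coprime
  rep := by
    obtain ⟨E, _, _, F, _, _, ρ, h1, ⟨e'⟩, h2⟩ := h.rep
    exact ⟨E, inferInstance, inferInstance, F, inferInstance, inferInstance, ρ, h1, ⟨e'.trans e⟩, h2⟩
  dvd := by rw [← Nat.card_congr e.toEquiv]; exact h.dvd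
  index := by
    obtain ⟨H, hH, hi⟩ := h.index
    refine ⟨H.map e.toMonoidHom, ?_, ?_⟩
    · intro h0
      apply hH
      rw [← Subgroup.comap_map_eq_self_of_injective (f := e.toMonoidHom) e.injective H, h0, Subgroup.comap_top]
    · have h1 : (H.map e.toMonoidHom).index = H.index := Subgroup.index_map_equiv H e
      rw [h1]
      exact hi
  adj := by
    obtain ⟨χ, h1, h2⟩ := h.adj
    obtain ⟨n, ρ, hρ, hχ⟩ := χ.2
    refine ⟨⟨fun x => (χ : T → ℂ) (e.symm x), n, ρ.comp e.symm.toMonoidHom,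
      CharDeep.LinearChar.isIrreducible_comp _ e.symm.surjective ρ hρ, ?_⟩, ?_, ?_⟩
    · funext x
      rw [← hχ]
      rfl
    · intro h3
      apply h1
      funext t
      have h4 := congrFun h3 (e t)
      simpa using h4
    · refine le_trans (le_of_eq ?_) h2
      show ⌊((χ : T → ℂ) (e.symm 1)).re⌋₊ = ⌊((χ : T → ℂ) 1).re⌋₊
      rw [map_one]

theorem row_congr {T X : Type} [Group T] [Group X] (e : T ≃* X) (h : Row X) : Row T := by
  intro p f d hs
  have h1 := h p f d (sit_congr e hs)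
  rwa [← H934.OutB.card_out_congr e, ← H540.ClassNum.card_conjClasses_congr e] at h1

theorem perfect_of_simple {T : Type} [Group T] [IsSimpleGroup T] (hT : ¬ IsMulCommutative T) :
    commutator T = ⊤ := by
  rcases (commutator T).normal_of_characteristic.eq_bot_or_eq_top with h | h
  · exfalso
    apply hT
    rw [commutator_def, Subgroup.commutator_eq_bot_iff_le_centralizer] at h
    refine ⟨⟨fun a b => ?_⟩⟩
    exact ((Subgroup.mem_centralizer_iff.1 (h (Subgroup.mem_top a))) b (Subgroup.mem_top b)).symm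
  · exact h

/-- **The complex representation given by `Sit.adj`.** -/
theorem exists_rep {T : Type} [Group T] (hT : commutator T = ⊤) {p f d : ℕ} (h : Sit T p f d) :
    ∃ k : ℕ, 2 ≤ k ∧ k < d ^ 2 ∧ ∃ ρ : Representation ℂ T (Fin k → ℂ), ρ.IsIrreducible := by
  obtain ⟨χ, h1, h2⟩ := h.adj
  obtain ⟨k, ρ, hρ, hχ⟩ := χ.2
  have hdeg : charDegree (χ : T → ℂ) = k := by
    rw [← hχ, charDegree, Representation.char_one, Module.finrank_fin_fun, Complex.natCast_re, Nat.floor_natCast]
  rw [hdeg] at h2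
  have hd : 3 ≤ d := h.three_le
  have hd2 : 9 ≤ d ^ 2 := by nlinarith
  refine ⟨k, ?_, by omega, ρ, hρ⟩
  by_contra hk
  have hk' : k = 0 ∨ k = 1 := by omega
  rcases hk' with rfl | rfl
  · obtain ⟨hn, -⟩ := (CharDeep.LinearChar.isIrreducible_iff ρ).1 hρ
    exact not_subsingleton (Fin 0 → ℂ) inferInstance
  · apply h1
    have hcomm : ∀ A B : Module.End ℂ (Fin 1 → ℂ), A * B = B * A := by
      have hs : ∀ A : Module.End ℂ (Fin 1 → ℂ), ∃ a : ℂ, A = a • (1 : Module.End ℂ (Fin 1 → ℂ)) := by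
        intro A
        refine ⟨A (Pi.single 0 1) 0, ?_⟩
        apply LinearMap.ext
        intro v
        have hv : v = v 0 • (Pi.single 0 1 : Fin 1 → ℂ) := by
          funext i
          have : i = 0 := Subsingleton.elim _ _
          subst this
          simp
        funext i
        have hi : i = 0 := Subsingleton.elim _ _
        subst hi
        conv_lhs => rw [hv, map_smul]
        simp [mul_comm]
      intro A B
      obtain ⟨a, rfl⟩ := hs A
      obtain ⟨b, rfl⟩ := hs B
      rw [smul_mul_smul_comm, smul_mul_smul_comm, mul_comm a b]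
    have hker : ∀ x : T, ρ x = 1 := by
      have hle : commutator T ≤ (MonoidHom.ker ρ.asGroupHom) := by
        rw [commutator_def, Subgroup.commutator_le]
        intro a _ b _
        rw [MonoidHom.mem_ker, map_commutatorElement, commutatorElement_eq_one_iff_mul_comm]
        apply Units.ext
        exact hcomm _ _
      intro x
      have hx : x ∈ commutator T := by rw [hT]; exact Subgroup.mem_top x
      have h3 := MonoidHom.mem_ker.1 (hle hx)
      have h4 := congrArg Units.val h3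
      exact h4
    funext x
    rw [← hχ, Representation.character, hker x]
    show LinearMap.trace ℂ (Fin 1 → ℂ) 1 = 1
    rw [LinearMap.trace_one, Module.finrank_fin_fun]
    simp

/-- **`m < d ^ 2` from a lower bound for the degrees of a covering group.** -/
theorem lt_of_min {T : Type} [Group T] (hT : commutator T = ⊤) {G : Type} [Group G] (π : G →* T)
    (hπ : Function.Surjective π) {m : ℕ}
    (hm : ∀ (k : ℕ) (ρ : Representation ℂ G (Fin k → ℂ)), ρ.IsIrreducible → 2 ≤ k → m ≤ k)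
    {p f d : ℕ} (h : Sit T p f d) : m < d ^ 2 := by
  obtain ⟨k, hk2, hkd, ρ, hρ⟩ := exists_rep hT h
  exact (hm k (ρ.comp π) (CharDeep.LinearChar.isIrreducible_comp π hπ ρ hρ) hk2).trans_lt hkd

open H912.Bd in
/-- **`m < d ^ 2` from `Bd`.** -/
theorem lt_of_bd {T : Type} [Group T] [IsSimpleGroup T] (hT : ¬ IsMulCommutative T) {r m : ℕ} (hm : Bd ℂ r m T)
    {p f d : ℕ} (h : Sit T p f d) : m < d ^ 2 := by
  obtain ⟨k, hk2, hkd, ρ, hρ⟩ := exists_rep (perfect_of_simple hT) h
  refine (hm k ?_).trans_lt hkd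
  let ρ' : T →* Matrix.GeneralLinearGroup (Fin k) ℂ :=
    (Matrix.GeneralLinearGroup.toLin (n := Fin k) (R := ℂ)).symm.toMonoidHom.comp ρ.asGroupHom
  refine ⟨T, inferInstance, MonoidHom.id T, ρ', Function.surjective_id, ?_, ?_, ?_⟩
  · intro x hx y
    have : x = 1 := hx
    rw [this, one_mul, mul_one]
  · have : (MonoidHom.id T).ker = ⊥ := by
      rw [MonoidHom.ker_eq_bot_iff]; exact Function.injective_id
    rw [this, Subgroup.card_bot]
    exact Nat.coprime_one_left r
  · rcases (MonoidHom.normal_ker ρ').eq_bot_or_eq_top with h0 | h0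
    · rw [h0]; exact bot_le
    · exfalso
      have h1 : ∀ x : T, ρ x = 1 := by
        intro x
        have hx : x ∈ ρ'.ker := by rw [h0]; exact Subgroup.mem_top x
        have h2 : (Matrix.GeneralLinearGroup.toLin (n := Fin k) (R := ℂ)).symm (ρ.asGroupHom x) = 1 := hx
        have h3 := (map_eq_one_iff _ (MulEquiv.injective _)).1 h2
        exact congrArg Units.val h3
      obtain ⟨-, hW⟩ := (CharDeep.LinearChar.isIrreducible_iff ρ).1 hρ
      have h4 := hW (Submodule.span ℂ {(Pi.single ⟨0, by omega⟩ 1 : Fin k → ℂ)}) (by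
        intro g v hv
        rw [h1 g]
        exact hv)
      rcases h4 with h5 | h5
      · rw [Submodule.span_singleton_eq_bot] at h5
        have := congrFun h5 ⟨0, by omega⟩
        simp at this
      · have h6 : (Pi.single ⟨1, by omega⟩ 1 : Fin k → ℂ) ∈
            Submodule.span ℂ {(Pi.single ⟨0, by omega⟩ 1 : Fin k → ℂ)} := by
          rw [h5]; exact Submodule.mem_top
        obtain ⟨a, ha⟩ := Submodule.mem_span_singleton.1 h6
        have := congrFun ha ⟨1, by omega⟩
        simp at this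

/-- the inequality of the row -/
theorem key {p f d b K : ℕ} (hb2 : 2 ≤ b) (hb : b ≤ p) (hf : 1 ≤ f) (hd3 : 2 ≤ d) (h : 2 * K ≤ b ^ (d - 1)) :
    2 * f * (p ^ f - 1) * K ≤ (p ^ f) ^ d :=
  H528.KGV.num hb2 hb hf hd3 le_rfl h

/-- the inequality of the row for `f ≥ 2` -/
theorem key_two {p f d b K : ℕ} (hb2 : 2 ≤ b) (hb : b ≤ p) (hf : 2 ≤ f) (hd3 : 2 ≤ d)
    (h : 4 * K ≤ b ^ (2 * (d - 1))) : 2 * f * (p ^ f - 1) * K ≤ (p ^ f) ^ d := by
  have h1 : f ≤ 2 * b ^ ((f - 2) * (d - 1)) := by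
    have h2 : f - 2 < 2 ^ (f - 2) := Nat.lt_two_pow_self
    have h3 : 2 ^ (f - 2) ≤ b ^ ((f - 2) * (d - 1)) :=
      (Nat.pow_le_pow_left hb2 _).trans
        (Nat.pow_le_pow_right (by omega) (Nat.le_mul_of_pos_right _ (by omega)))
    have h4 : 1 ≤ 2 ^ (f - 2) := Nat.one_le_two_pow
    omega
  have h3 : 2 * f * K ≤ (p ^ f) ^ (d - 1) := by
    calc 2 * f * K ≤ 2 * (2 * b ^ ((f - 2) * (d - 1))) * K := by
          exact Nat.mul_le_mul_right _ (Nat.mul_le_mul_left _ h1)
      _ = b ^ ((f - 2) * (d - 1)) * (4 * K) := by ring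
      _ ≤ b ^ ((f - 2) * (d - 1)) * b ^ (2 * (d - 1)) := Nat.mul_le_mul_left _ h
      _ = (b ^ f) ^ (d - 1) := by
          rw [← pow_add, ← pow_mul, ← add_mul, Nat.sub_add_cancel hf]
      _ ≤ _ := Nat.pow_le_pow_left (Nat.pow_le_pow_left hb f) _
  calc 2 * f * (p ^ f - 1) * K = 2 * f * K * (p ^ f - 1) := by ring
    _ ≤ (p ^ f) ^ (d - 1) * p ^ f := Nat.mul_le_mul h3 (Nat.sub_le _ _)
    _ = _ := by
      rw [← pow_succ]
      congr 1
      omega

/-- **The inequality for a group of order `N`** (`D ≤ d`), reduced to finitely many `(p, d)` with `f = 1` -/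
theorem special {N K b D D1 P1 : ℕ} (hb2 : 2 ≤ b) (hD2 : 2 ≤ D) (hb : ∀ m < b, 1 < m → ¬ Nat.Coprime m N)
    (h4 : 4 * K ≤ b ^ (2 * (D - 1))) (hD1 : 2 * K ≤ b ^ (D1 - 1)) (hP1 : 2 * K ≤ P1 ^ (D - 1))
    (h : ∀ d < D1, ∀ p < P1, (D ≤ d ∧ b ≤ p ∧ Nat.Coprime p N ∧ N ∣ ∏ i ∈ Finset.Icc 2 d, (p ^ i - 1)) →
      2 * (p - 1) * K ≤ p ^ d)
    {p f d : ℕ} (hp : p.Prime) (hf : 1 ≤ f) (hd : D ≤ d) (hpN : ¬ p ∣ N)
    (hdvd : N ∣ ∏ i ∈ Finset.Icc 2 d, ((p ^ f) ^ i - 1)) : 2 * f * (p ^ f - 1) * K ≤ (p ^ f) ^ d := by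
  have hc : Nat.Coprime p N := (Nat.Prime.coprime_iff_not_dvd hp).2 hpN
  have hbp : b ≤ p := by
    by_contra hcon
    exact hb p (by omega) hp.one_lt hc
  rcases hf.eq_or_lt with rfl | hf2
  · rw [pow_one] at hdvd ⊢
    rcases Nat.lt_or_ge d D1 with hd1 | hd1
    · rcases Nat.lt_or_ge p P1 with hp1 | hp1
      · rw [mul_one]
        exact h d hd1 p hp1 ⟨hd, hbp, hc, hdvd⟩
      · have h1 : 2 * K ≤ p ^ (d - 1) := by
          refine hP1.trans ((Nat.pow_le_pow_left hp1 _).trans (Nat.pow_le_pow_right hp.pos (by omega)))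
        have h2 := key (p := p) (f := 1) (d := d) (K := K) hp.two_le le_rfl le_rfl (by omega) h1
        rwa [pow_one] at h2
    · have h1 : 2 * K ≤ b ^ (d - 1) := hD1.trans (Nat.pow_le_pow_right (by omega) (by omega))
      have h2 := key (p := p) (f := 1) (d := d) (K := K) hb2 hbp le_rfl (by omega) h1
      rwa [pow_one] at h2
  · exact key_two hb2 hbp hf2 (by omega) (h4.trans (Nat.pow_le_pow_right (by omega) (by omega)))

end Cfsg.Agent.H517.Kgv
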